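import Cfsg.Agent.H843.IMC.Co1B
import Cfsg.Agent.H954.LD.Row
import Cfsg.Agent.H692.RealOver
import Cfsg.Agent.S0145
import Cfsg.Agent.S2069
import Cfsg.Agent.S0399
import Cfsg.Agent.H55.OutGen

/-!
# S4910, row `Co1` (helper272)

`exists_two_primes` : `p` an exact prime divisor of `|G|`, `r` a prime: a nonprincipal irreducible character of degree prime to
`p` and `r` (the column of an element of order `p` modulo `r`).
-/

set_option autoImplicit false

namespace Cfsg.Agent.H272.LD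

open Cfsg Cfsg.Agent.Characters.Core Cfsg.Agent.H954.LD
open scoped ComplexConjugate

universe u

theorem not_integral {r : ℕ} (hr : 2 ≤ r) {β : ℂ} (hβ : IsIntegral ℤ β) : (1 : ℂ) + r * β ≠ 0 := by
  intro h
  have hr0 : (r : ℂ) ≠ 0 := by exact_mod_cast (by omega : r ≠ 0)
  have h1 : β = algebraMap ℚ ℂ (-(1 : ℚ) / r) := by
    rw [map_div₀, map_neg, map_one, map_natCast]
    field_simp
    linear_combination h
  rw [h1] at hβ
  have h2 : IsIntegral ℤ (-(1 : ℚ) / r) := (isIntegral_algebraMap_iff (algebraMap ℚ ℂ).injective).1 hβ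
  obtain ⟨n, hn⟩ := IsIntegrallyClosed.isIntegral_iff.1 h2
  have hn' : (n : ℚ) = -1 / r := hn
  have hrq : (r : ℚ) ≠ 0 := by exact_mod_cast (by omega : r ≠ 0)
  have h3 : (n : ℚ) * r = -1 := by rw [hn']; field_simp
  have h4 : n * (r : ℤ) = -1 := by exact_mod_cast h3
  have h5 : (r : ℤ) ∣ 1 := ⟨-n, by linarith⟩
  have h6 := Int.le_of_dvd one_pos h5
  omega

variable {G : Type u} [Group G]

theorem eq_one_of_deg [IsSimpleGroup G] (hna : ¬ IsMulCommutative G) {χ : G → ℂ} (hχ : IsIrrCharacter G χ)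
    (h : charDegree χ = 1) : χ = 1 := by
  have h1 : χ 1 = 1 := by
    rw [Blocks.Basic.irr_one_eq_charDegree hχ, h, Nat.cast_one]
  obtain ⟨f, hf⟩ := Cfsg.Agent.Characters.Linear.exists_hom_of_isIrrCharacter hχ h1
  have h2 : f = 1 := by
    rcases IsSimpleGroup.eq_bot_or_eq_top_of_normal f.ker inferInstance with h | h
    · exfalso
      have hinj : Function.Injective f := (MonoidHom.ker_eq_bot_iff f).1 h
      refine hna ⟨⟨fun a b => hinj ?_⟩⟩
      rw [map_mul, map_mul, mul_comm]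
    · exact MonoidHom.ext fun x => by
        have : x ∈ f.ker := h ▸ Subgroup.mem_top x
        exact this
  rw [hf, h2]
  funext g
  simp

/-- **Two primes.** -/
theorem exists_two_primes [Finite G] {p r : ℕ} (hp : p.Prime) (hr : r.Prime) (h1 : p ∣ Nat.card G) (h2 : ¬ p ^ 2 ∣ Nat.card G) :
    ∃ χ : IrrCharacter G, (χ : G → ℂ) ≠ 1 ∧ ¬ p ∣ charDegree (χ : G → ℂ) ∧ ¬ r ∣ charDegree (χ : G → ℂ) := by
  classical
  by_contra hcon
  push Not at hcon
  have : Fact p.Prime := ⟨hp⟩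
  have := Fintype.ofFinite G
  have : Finite (IrrCharacter G) := finite_irr
  have := Fintype.ofFinite (IrrCharacter G)
  have hfac : (Nat.card G).factorization p = 1 := by
    have h0 : Nat.card G ≠ 0 := Nat.card_pos.ne'
    have h3 : 1 ≤ (Nat.card G).factorization p := (hp.pow_dvd_iff_le_factorization h0).1 (by rwa [pow_one])
    have h4 : ¬ 2 ≤ (Nat.card G).factorization p := fun h => h2 ((hp.pow_dvd_iff_le_factorization h0).2 h)
    omega
  obtain ⟨x, hx⟩ := exists_prime_orderOf_dvd_card' (G := G) p h1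
  have hx1 : ¬ IsConj (1 : G) x := by
    intro h
    rw [isConj_one_right.1 h, orderOf_one] at hx
    exact hp.one_lt.ne hx
  have hcol := S0145.sum_irr_mul_conj (1 : G) x
  rw [if_neg hx1] at hcol
  set ε : IrrCharacter G := ⟨1, isIrr_one⟩ with hε
  rw [← Finset.add_sum_erase _ _ (Finset.mem_univ ε)] at hcol
  have he : (ε : G → ℂ) 1 * conj ((ε : G → ℂ) x) = 1 := by
    show (1 : ℂ) * conj (1 : ℂ) = 1
    rw [map_one, mul_one]
  rw [he] at hcol
  -- every other term is `r` times an algebraic integer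
  have hterm : ∀ χ : IrrCharacter G, χ ≠ ε → ∃ β : ℂ, IsIntegral ℤ β ∧ (χ : G → ℂ) 1 * conj ((χ : G → ℂ) x) = r * β := by
    intro χ hχ
    have hne : (χ : G → ℂ) ≠ 1 := fun h => hχ (Subtype.ext h)
    by_cases hpd : p ∣ charDegree (χ : G → ℂ)
    · refine ⟨0, isIntegral_zero, ?_⟩
      have h3 := H692.RealOver.defect_zero_vanish χ.2 p hp (by rw [hfac, pow_one]; exact hpd) (x := x) (by rw [hx])
      rw [h3, map_zero, mul_zero, mul_zero]
    · obtain ⟨k, hk⟩ := hcon χ hne hpd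
      have h3 : (χ : G → ℂ) 1 = (charDegree (χ : G → ℂ) : ℂ) := Blocks.Basic.irr_one_eq_charDegree χ.2
      refine ⟨k * conj ((χ : G → ℂ) x), ?_, ?_⟩
      · refine IsIntegral.mul (isIntegral_algebraMap (R := ℤ) (A := ℂ) (x := (k : ℤ))) ?_
        exact IsIntegral.map ((Complex.conjAe : ℂ →ₐ[ℝ] ℂ).restrictScalars ℤ)
          (Characters.GaloisBasic.isIntegral_apply (isIrr_isCharacter χ.2) x)
      · rw [h3, hk]
        push_cast
        ring
  choose β hβ hβe using hterm
  have hsum : ∑ χ ∈ Finset.univ.erase ε, (χ : G → ℂ) 1 * conj ((χ : G → ℂ) x) =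
      r * ∑ χ ∈ (Finset.univ.erase ε).attach, β χ.1 (Finset.ne_of_mem_erase χ.2) := by
    rw [Finset.mul_sum, ← Finset.sum_attach]
    exact Finset.sum_congr rfl fun χ _ => hβe χ.1 _
  rw [hsum] at hcol
  refine not_integral hr.two_le (IsIntegral.sum _ fun χ _ => ?_) hcol
  exact hβ _ _

/-- `|Out S| = 1`, a character of degree `p ^ a r ^ b`, `p` exact -/
theorem copRow_of_two {S : Type u} [Group S] [Finite S] [IsSimpleGroup S] (hna : ¬ IsMulCommutative S)
    (ho : Nat.card (Out S) = 1) {p r a b : ℕ} (hp : p.Prime) (hr : r.Prime) (h1 : p ∣ Nat.card S) (h2 : ¬ p ^ 2 ∣ Nat.card S)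
    {α : IrrCharacter S} (hα : charDegree (α : S → ℂ) = p ^ a * r ^ b) (hα1 : charDegree (α : S → ℂ) ≠ 1) : CopRow S := by
  obtain ⟨χ, hχ, hχp, hχr⟩ := exists_two_primes (G := S) hp hr h1 h2
  refine copRow_one hna ho (α := α) (β := χ) hα1 ?_ ?_
  · intro h
    exact hχ (eq_one_of_deg hna χ.2 h)
  · rw [hα]
    exact Nat.Coprime.mul_left (Nat.Coprime.pow_left a ((Nat.Prime.coprime_iff_not_dvd hp).2 hχp))
      (Nat.Coprime.pow_left b ((Nat.Prime.coprime_iff_not_dvd hr).2 hχr))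

theorem row_Co1 {S : Type u} [Group S] [Finite S] [IsSimpleGroup S] (hna : ¬ IsMulCommutative S)
    (h : Spor.IsoCo1 S) : Cfsg.Agent.H954.LD.CopRow S := by
  obtain ⟨e⟩ := h
  have h1 : Nat.card (Out S) = 1 := by rw [H55.OutGen.card_out_congr e]; exact S2069.result
  have hcard : Nat.card S = 4157776806543360000 := by
    rw [Nat.card_congr e.toEquiv]
    exact S0399.result.2
  obtain ⟨ξ, hξ, -⟩ := H843.IMC.Co1B.exists_299
  obtain ⟨α, hα⟩ : ∃ χ : IrrCharacter S, charDegree (χ : S → ℂ) = 299 := by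
    refine ⟨⟨(ξ : Spor.Co1 → ℂ) ∘ e.toMonoidHom, isIrr_comp e.toMonoidHom e.surjective ξ.2⟩, ?_⟩
    apply Cfsg.Agent.H670.PSing.charDegree_eq_of
    show (ξ : Spor.Co1 → ℂ) (e 1) = _
    rw [map_one, Blocks.Basic.irr_one_eq_charDegree ξ.2, hξ]
  exact copRow_of_two hna h1 (p := 23) (r := 13) (a := 1) (b := 1) (by norm_num) (by norm_num) (by rw [hcard]; norm_num)
    (by rw [hcard]; norm_num) (α := α) (by rw [hα]; norm_num) (by rw [hα]; norm_num)

end Cfsg.Agent.H272.LD
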